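import Groth.Agent.KrullAkizuki12.ResidueIndep
import Groth.Agent.E4O.LocalFinite
import Groth.Agent.EGA4H10.CompleteJ2
import Mathlib.RingTheory.Flat.Localization
import Mathlib.RingTheory.Flat.FaithfullyFlat.Basic
import Mathlib.LinearAlgebra.Dimension.StrongRankCondition

/-!
Finite algebras inside a finite extension of the fraction field of a Noetherian local domain: the
number of maximal ideals and the residue degrees are bounded through a complete flat local algebra.
-/

set_option autoImplicit false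

universe u

namespace Groth.Agent.KrullAkizuki12

open IsLocalRing TensorProduct

/-- The maximal ideal containing `P` when `T ⧸ P` is local. -/
theorem comap_maximalIdeal_eq {T : Type u} [CommRing T] (P : Ideal T) [IsLocalRing (T ⧸ P)] {N : Ideal T}
    (hN : N.IsMaximal) (hle : P ≤ N) : (maximalIdeal (T ⧸ P)).comap (Ideal.Quotient.mk P) = N := by
  have hb : (N.map (Ideal.Quotient.mk P)).comap (Ideal.Quotient.mk P) = N := by
    rw [Ideal.comap_map_of_surjective _ Ideal.Quotient.mk_surjective, ← RingHom.ker_eq_comap_bot,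
      Ideal.mk_ker, sup_eq_left.mpr hle]
  have hmap : N.map (Ideal.Quotient.mk P) ≤ maximalIdeal _ := IsLocalRing.le_maximalIdeal fun htop => by
    rw [htop, Ideal.comap_top] at hb
    exact hN.ne_top hb.symm
  exact (hN.eq_of_le (Ideal.comap_ne_top _ (maximalIdeal.isMaximal _).ne_top)
    (hb ▸ Ideal.comap_mono hmap)).symm

/-- Residual independence over `A` becomes independence over a regular local ring below. -/
theorem eq_zero_of_residueIndep' {A C Cq E R : Type u} [CommRing A] [IsLocalRing A] [CommRing C]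
    [IsLocalRing C] [Algebra A C] [IsLocalHom (algebraMap A C)]
    (hres : ∀ c : C, ∃ a : A, c - algebraMap A C a ∈ maximalIdeal C)
    [CommRing Cq] [IsLocalRing Cq] [Algebra C Cq] (hsurj : Function.Surjective (algebraMap C Cq))
    [CommRing E] [IsDomain E] [IsLocalRing E] [Algebra Cq E] [Module.Finite Cq E]
    (hinj : Function.Injective (algebraMap Cq E)) [CommRing R] [IsRegularLocalRing R] [Algebra R Cq]
    [Module.Finite R Cq] (hRinj : Function.Injective (algebraMap R Cq)) [Algebra R E] [IsScalarTower R Cq E]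
    {n : ℕ} (e : Fin n → E)
    (he : ∀ a : Fin n → A, ∑ i, algebraMap Cq E (algebraMap C Cq (algebraMap A C (a i))) * e i ∈
      maximalIdeal E → ∀ i, a i ∈ maximalIdeal A) :
    ∀ d : Fin n → R, ∑ i, d i • e i = 0 → ∀ i, d i = 0 := by
  have : Module.Finite R E := Module.Finite.trans Cq E
  have hC : ∀ z ∈ maximalIdeal Cq, algebraMap Cq E z ∈ maximalIdeal E := fun z hz =>
    (IsLocalRing.eq_maximalIdeal (Ideal.isMaximal_comap_of_isIntegral_of_isMaximal (R := Cq)
      (maximalIdeal E))).ge hz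
  have : IsLocalHom (algebraMap C Cq) := hsurj.isLocalHom _
  have hinj' : Function.Injective (algebraMap R E) := by
    rw [IsScalarTower.algebraMap_eq R Cq E]
    exact hinj.comp hRinj
  refine eq_zero_of_residueIndep R E hinj' e fun d hd => ?_
  choose c hc using fun i => hsurj (algebraMap R Cq (d i))
  choose a ha using fun i => hres (c i)
  have key : ∑ i, algebraMap Cq E (algebraMap C Cq (algebraMap A C (a i))) * e i ∈ maximalIdeal E := by
    have h1 : ∑ i, algebraMap Cq E (algebraMap C Cq (algebraMap A C (a i))) * e i =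
        ∑ i, d i • e i - ∑ i, algebraMap Cq E (algebraMap C Cq (c i - algebraMap A C (a i))) * e i := by
      rw [← Finset.sum_sub_distrib]
      refine Finset.sum_congr rfl fun i _ => ?_
      rw [Algebra.smul_def, IsScalarTower.algebraMap_apply R Cq E, ← hc i, map_sub, map_sub, sub_mul,
        sub_sub_cancel]
    rw [h1]
    refine sub_mem hd (Ideal.sum_mem _ fun i _ => Ideal.mul_mem_right _ _ (hC _ fun hu => ?_))
    exact ha i (isUnit_of_map_unit (algebraMap C Cq) _ hu)
  intro i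
  have hci : c i ∈ maximalIdeal C := by
    have hmap : algebraMap A C (a i) ∈ maximalIdeal C := fun hu =>
      he a key i (isUnit_of_map_unit (algebraMap A C) _ hu)
    simpa using add_mem (ha i) hmap
  intro hu
  exact hci (isUnit_of_map_unit (algebraMap C Cq) _ (hc i ▸ hu.map (algebraMap R Cq)))

/-- The bound attached to a prime `Q` of a `C`-algebra `T`. -/
theorem exists_bound_prime {A C T : Type u} [CommRing A] [IsLocalRing A] [CommRing C] [IsLocalRing C]
    [IsNoetherianRing C] [IsAdicComplete (maximalIdeal C) C] [Algebra A C] [IsLocalHom (algebraMap A C)]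
    (hres : ∀ c : C, ∃ a : A, c - algebraMap A C a ∈ maximalIdeal C)
    [CommRing T] [Algebra A T] [Algebra C T] [IsScalarTower A C T] (Q : Ideal T) [Q.IsPrime]
    (T₀ : Subalgebra C T) [Module.Finite C T₀] :
    ∃ M : ℕ, ∀ (E : Type u) [CommRing E] [Algebra A E] [Algebra C E] [IsScalarTower A C E] [Module.Finite C E]
      (f : E →ₐ[C] T),
      IsLocalRing (E ⧸ Q.comap f) ∧
      ∀ 𝔐 : Ideal E, 𝔐.IsMaximal → Q.comap f ≤ 𝔐 → ∀ (n : ℕ) (v : Fin n → E),
        (∀ a : Fin n → A, ∑ i, a i • v i ∈ 𝔐 → ∀ i, a i ∈ maximalIdeal A) →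
        (∃ q : A, IsUnit (algebraMap A T q) ∧ ∀ i, algebraMap A T q * f (v i) ∈ T₀) → n ≤ M := by
  classical
  let 𝔭 : Ideal C := Q.comap (algebraMap C T)
  have : IsLocalRing (C ⧸ 𝔭) := IsLocalRing.of_surjective' _ Ideal.Quotient.mk_surjective
  have := EGA4H10.isAdicComplete_maximalIdeal_of_finite C (C ⧸ 𝔭)
  obtain ⟨R, _, _, _, _, _, hRinj, -⟩ := EGA4H10.exists_finite_regular (C ⧸ 𝔭)
  have : Q.LiesOver 𝔭 := ⟨rfl⟩
  let : Algebra R (T ⧸ Q) := ((algebraMap (C ⧸ 𝔭) (T ⧸ Q)).comp (algebraMap R (C ⧸ 𝔭))).toAlgebra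
  have : IsScalarTower R (C ⧸ 𝔭) (T ⧸ Q) := IsScalarTower.of_algebraMap_eq fun _ => rfl
  obtain ⟨G, hG⟩ := Module.Finite.fg_top (R := C) (M := T₀)
  let g₀ : T₀ →ₐ[C] T ⧸ Q := (Ideal.Quotient.mkₐ C Q).comp T₀.val
  let W : Submodule (C ⧸ 𝔭) (T ⧸ Q) := Submodule.span (C ⧸ 𝔭) (G.image g₀ : Set (T ⧸ Q))
  have : Module.Finite (C ⧸ 𝔭) W := Module.Finite.iff_fg.mpr ⟨_, rfl⟩
  have : Module.Finite R W := Module.Finite.trans (C ⧸ 𝔭) W
  have hW : ∀ y, g₀ y ∈ W := fun y => by
    have hy : y ∈ Submodule.span C (G : Set T₀) := hG ▸ Submodule.mem_top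
    induction hy using Submodule.span_induction with
    | mem z hz => exact Submodule.subset_span (Finset.mem_image_of_mem g₀ hz)
    | zero => rw [map_zero]; exact zero_mem _
    | add z w _ _ hz hw => rw [map_add]; exact add_mem hz hw
    | smul c z _ hz =>
      rw [map_smul]
      have h := W.smul_mem (Ideal.Quotient.mk 𝔭 c) hz
      have e : c • g₀ z = (Ideal.Quotient.mk 𝔭 c) • g₀ z := (algebraMap_smul (C ⧸ 𝔭) c (g₀ z)).symm
      rwa [e]
  refine ⟨Module.finrank R W, fun E _ _ _ _ _ f => ?_⟩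
  let P : Ideal E := Q.comap f
  have : P.LiesOver 𝔭 := ⟨by
    show 𝔭 = (Q.comap f).comap (algebraMap C E)
    ext c
    show c ∈ 𝔭 ↔ f (algebraMap C _ c) ∈ Q
    rw [AlgHom.commutes]
    rfl⟩
  have : P.IsPrime := Ideal.comap_isPrime _ _
  have hE : IsLocalRing (E ⧸ P) := E4O.isLocalRing_of_finite_henselian (A := C) (B := E ⧸ P)
  refine ⟨hE, fun 𝔐 h𝔐 hP n v hv hq => ?_⟩
  have h𝔐E := comap_maximalIdeal_eq P h𝔐 hP
  let : Algebra R (E ⧸ P) := ((algebraMap (C ⧸ 𝔭) (E ⧸ P)).comp (algebraMap R (C ⧸ 𝔭))).toAlgebra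
  have : IsScalarTower R (C ⧸ 𝔭) (E ⧸ P) := IsScalarTower.of_algebraMap_eq fun _ => rfl
  have : Module.Finite (C ⧸ 𝔭) (E ⧸ P) := Module.Finite.of_restrictScalars_finite C _ _
  let e : Fin n → E ⧸ P := fun i => Ideal.Quotient.mk P (v i)
  have hindep : ∀ d : Fin n → R, ∑ i, d i • e i = 0 → ∀ i, d i = 0 := by
    refine eq_zero_of_residueIndep' (A := A) (C := C) (Cq := C ⧸ 𝔭) hres Ideal.Quotient.mk_surjective
      (FaithfulSMul.algebraMap_injective (C ⧸ 𝔭) (E ⧸ P)) hRinj e fun a hmem => hv a ?_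
    rw [← h𝔐E, Ideal.mem_comap, map_sum]
    convert hmem using 1
    refine Finset.sum_congr rfl fun i _ => ?_
    rw [Algebra.smul_def, map_mul, IsScalarTower.algebraMap_apply A C E]
    rfl
  obtain ⟨q, hqu, hqv⟩ := hq
  let w : Fin n → W := fun i => ⟨g₀ ⟨_, hqv i⟩, hW _⟩
  let ψ : (E ⧸ P) →ₐ[C] T ⧸ Q := Ideal.quotientMapₐ Q f le_rfl
  have hψ : Function.Injective ψ := Ideal.quotientMap_injective
  have hψR : ∀ (r : R) x, ψ (r • x) = r • ψ x := fun r x => by
    obtain ⟨c, hc⟩ := Ideal.Quotient.mk_surjective (algebraMap R (C ⧸ 𝔭) r)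
    rw [Algebra.smul_def, map_mul, Algebra.smul_def]
    congr 1
    show ψ (algebraMap (C ⧸ 𝔭) _ (algebraMap R _ r)) = algebraMap (C ⧸ 𝔭) _ (algebraMap R _ r)
    rw [← hc]
    exact ψ.commutes c
  have hw : ∀ i, (w i : T ⧸ Q) = Ideal.Quotient.mk Q (algebraMap A T q) * ψ (e i) := fun i => by
    show Ideal.Quotient.mk Q (algebraMap A T q * f (v i)) = _
    rw [map_mul]
    rfl
  have hli : LinearIndependent R w := by
    rw [Fintype.linearIndependent_iff]
    intro d hd
    refine hindep d (hψ ?_)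
    rw [map_zero, map_sum, ← (hqu.map (Ideal.Quotient.mk Q)).mul_right_eq_zero, Finset.mul_sum]
    have hd' := congrArg (Subtype.val : W → T ⧸ Q) hd
    rw [AddSubmonoidClass.coe_finsetSum, ZeroMemClass.coe_zero] at hd'
    rw [← hd']
    refine Finset.sum_congr rfl fun i _ => ?_
    show _ = d i • (w i : T ⧸ Q)
    rw [hψR, hw, mul_smul_comm]
  simpa using hli.fintype_card_le_finrank

/-- Through a flat complete Noetherian local algebra with the same residue field, finite subalgebras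
of `K'` containing `B₀` have boundedly many maximal ideals and bounded residue degrees. -/
theorem exists_bound {A C K' : Type u} [CommRing A] [IsDomain A] [IsLocalRing A] [CommRing C]
    [IsLocalRing C] [IsNoetherianRing C] [IsAdicComplete (maximalIdeal C) C] [Algebra A C]
    [Module.Flat A C] [IsLocalHom (algebraMap A C)]
    (hres : ∀ c : C, ∃ a : A, c - algebraMap A C a ∈ maximalIdeal C)
    [Field K'] [Algebra A K'] [FaithfulSMul A K'] (B₀ : Subalgebra A K') [Module.Finite A B₀]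
    (hB₀ : ∀ z : K', ∃ a : A, a ≠ 0 ∧ algebraMap A K' a * z ∈ B₀) :
    ∃ N M : ℕ, ∀ B : Subalgebra A K', B₀ ≤ B → Module.Finite A B →
      (∀ s : Finset (MaximalSpectrum B), s.card ≤ N) ∧
      ∀ m : Ideal B, m.IsMaximal → ∀ (n : ℕ) (v : Fin n → B),
        (∀ c : Fin n → A, ∑ i, c i • v i ∈ m → ∀ i, c i ∈ maximalIdeal A) → n ≤ M := by
  classical
  have hA : ∀ {a : A}, a ≠ 0 → algebraMap A K' a ≠ 0 := fun ha h =>
    ha (FaithfulSMul.algebraMap_injective A K' (h.trans (map_zero _).symm))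
  have : Module.FaithfullyFlat A C := Module.FaithfullyFlat.of_flat_of_isLocalHom
  let T := C ⊗[A] K'
  let f : ∀ B : Subalgebra A K', C ⊗[A] B →ₐ[C] T := fun B => Algebra.TensorProduct.map (AlgHom.id C C) B.val
  have hfinj : ∀ B, Function.Injective (f B) := fun B =>
    Module.Flat.lTensor_preserves_injective_linearMap B.val.toLinearMap Subtype.val_injective
  have hunit : ∀ {a : A}, a ≠ 0 → IsUnit (algebraMap A T a) := fun ha => by
    rw [← (Algebra.TensorProduct.includeRight : K' →ₐ[A] T).commutes]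
    exact (isUnit_iff_ne_zero.mpr (hA ha)).map _
  have hfa : ∀ (B : Subalgebra A K') (a : A), f B (algebraMap A _ a) = algebraMap A T a := fun B a =>
    ((f B).restrictScalars A).commutes a
  -- denominators
  have hden : ∀ B : Subalgebra A K', B₀ ≤ B → ∀ x : T, ∃ a : A, a ≠ 0 ∧ ∃ y, f B y = algebraMap A T a * x := by
    intro B hB x
    induction x using TensorProduct.induction_on with
    | zero => exact ⟨1, one_ne_zero, 0, by simp⟩
    | tmul c z =>
      obtain ⟨a, ha, haz⟩ := hB₀ z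
      refine ⟨a, ha, c ⊗ₜ ⟨_, hB haz⟩, ?_⟩
      show c ⊗ₜ[A] (algebraMap A K' a * z) = algebraMap A T a * (c ⊗ₜ[A] z)
      rw [← Algebra.smul_def a (c ⊗ₜ[A] z), ← TensorProduct.tmul_smul, Algebra.smul_def]
    | add x y hx hy =>
      obtain ⟨a, ha, u, hu⟩ := hx
      obtain ⟨b, hb, w, hw⟩ := hy
      refine ⟨a * b, mul_ne_zero ha hb, algebraMap A _ b * u + algebraMap A _ a * w, ?_⟩
      rw [map_add, map_mul, map_mul, hu, hw, map_mul, mul_add]
      rw [show f B (algebraMap A _ b) = algebraMap A T b from hfa B b,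
        show f B (algebraMap A _ a) = algebraMap A T a from hfa B a]
      ring
  -- `T` is a localization of `C ⊗ B`
  have hloc : ∀ B : Subalgebra A K', B₀ ≤ B →
      @IsLocalization _ _ (Algebra.algebraMapSubmonoid (C ⊗[A] B) (nonZeroDivisors A)) T _
        (f B).toRingHom.toAlgebra := by
    intro B hB
    let : Algebra (C ⊗[A] B) T := (f B).toRingHom.toAlgebra
    refine ⟨?_, ?_, ?_⟩
    · rintro ⟨_, a, ha, rfl⟩
      show IsUnit (f B (algebraMap A _ a))
      rw [hfa B a]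
      exact hunit (nonZeroDivisors.ne_zero ha)
    · intro x
      obtain ⟨a, ha, y, hy⟩ := hden B hB x
      refine ⟨(y, ⟨_, a, mem_nonZeroDivisors_of_ne_zero ha, rfl⟩), ?_⟩
      show x * f B (algebraMap A _ a) = f B y
      rw [hfa B a, hy, mul_comm]
    · intro x y h
      exact ⟨1, by rw [hfinj B h]⟩
  have hnoeth : IsNoetherianRing T := by
    let : Algebra (C ⊗[A] B₀) T := (f B₀).toRingHom.toAlgebra
    have := hloc B₀ le_rfl
    have : IsNoetherianRing (C ⊗[A] B₀) := IsNoetherianRing.of_finite C _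
    exact IsLocalization.isNoetherianRing (Algebra.algebraMapSubmonoid (C ⊗[A] B₀) (nonZeroDivisors A)) T
      inferInstance
  have hfinQ : (minimalPrimes T).Finite := minimalPrimes.finite_of_isNoetherianRing T
  let inR : ∀ B : Subalgebra A K', B →ₐ[A] C ⊗[A] B := fun B => Algebra.TensorProduct.includeRight
  -- a bound on the residue degrees attached to a prime of `T`
  have hbound : ∀ Q : Ideal T, Q.IsPrime → ∃ M : ℕ, ∀ B : Subalgebra A K', B₀ ≤ B → Module.Finite A B →
      IsLocalRing (C ⊗[A] B ⧸ Q.comap (f B)) ∧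
      ∀ 𝔐 : Ideal (C ⊗[A] B), 𝔐.IsMaximal → Q.comap (f B) ≤ 𝔐 → ∀ (n : ℕ) (v : Fin n → B),
        (∀ c : Fin n → A, ∑ i, c i • v i ∈ 𝔐.comap (inR B) → ∀ i, c i ∈ maximalIdeal A) → n ≤ M := by
    intro Q hQ
    have : Module.Finite C (f B₀).range := Module.Finite.range (f B₀).toLinearMap
    obtain ⟨M, hM⟩ := exists_bound_prime hres Q (f B₀).range
    refine ⟨M, fun B hB hBfin => ⟨(hM (C ⊗[A] B) (f B)).1, fun 𝔐 h𝔐 hP n v hv => ?_⟩⟩
    refine (hM (C ⊗[A] B) (f B)).2 𝔐 h𝔐 hP n (fun i => inR B (v i)) (fun a ha => hv a ?_) ?_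
    · rw [Ideal.mem_comap, map_sum]
      simpa only [map_smul] using ha
    · choose a ha haz using fun i => hB₀ (v i : K')
      have hqz : ∀ i, algebraMap A K' (∏ j, a j) * (v i : K') ∈ B₀ := fun i => by
        rw [← Finset.mul_prod_erase Finset.univ a (Finset.mem_univ i), map_mul,
          mul_comm (algebraMap A K' (a i)), mul_assoc]
        exact mul_mem (B₀.algebraMap_mem _) (haz i)
      refine ⟨∏ j, a j, hunit (Finset.prod_ne_zero_iff.mpr fun i _ => ha i), fun i =>
        ⟨(1 : C) ⊗ₜ ⟨_, hqz i⟩, ?_⟩⟩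
      show (1 : C) ⊗ₜ[A] (algebraMap A K' (∏ j, a j) * (v i : K')) =
        algebraMap A T (∏ j, a j) * ((1 : C) ⊗ₜ[A] (v i : K'))
      rw [← Algebra.smul_def _ ((1 : C) ⊗ₜ[A] (v i : K')), ← TensorProduct.tmul_smul, Algebra.smul_def]
  choose M hM using hbound
  let Qs := hfinQ.toFinset
  have hQs : ∀ Q : {Q // Q ∈ Qs}, Q.1.IsPrime := fun Q => (hfinQ.mem_toFinset.mp Q.2).1.1
  refine ⟨Qs.card, Finset.univ.sup fun Q : {Q // Q ∈ Qs} => M Q.1 (hQs Q), fun B hB hBfin => ?_⟩
  -- every maximal ideal of `B` is attached to a minimal prime of `T`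
  have hcover : ∀ m : Ideal B, m.IsMaximal → ∃ Q : {Q // Q ∈ Qs}, ∃ 𝔐 : Ideal (C ⊗[A] B),
      𝔐.IsMaximal ∧ Q.1.comap (f B) ≤ 𝔐 ∧ 𝔐.comap (inR B) = m := by
    intro m hm
    let h : C ⊗[A] B →ₐ[A] C ⊗[A] (B ⧸ m) :=
      Algebra.TensorProduct.map (AlgHom.id A C) (Ideal.Quotient.mkₐ A m)
    have hsurj : Function.Surjective h :=
      TensorProduct.map_surjective Function.surjective_id Ideal.Quotient.mk_surjective
    have : Nontrivial (B ⧸ m) := Ideal.Quotient.nontrivial_iff.mpr hm.ne_top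
    have : Nontrivial (C ⊗[A] (B ⧸ m)) := Module.FaithfullyFlat.lTensor_nontrivial A C (B ⧸ m)
    obtain ⟨𝔑, h𝔑⟩ := Ideal.exists_maximal (C ⊗[A] (B ⧸ m))
    let 𝔐 := 𝔑.comap h
    have h𝔐 : 𝔐.IsMaximal := Ideal.comap_isMaximal_of_surjective h hsurj
    have hcm : 𝔐.comap (inR B) = m := by
      have : 𝔐.IsPrime := h𝔐.isPrime
      refine (hm.eq_of_le (Ideal.comap_isPrime _ _).ne_top fun b hb => ?_).symm
      show (1 : C) ⊗ₜ[A] (Ideal.Quotient.mk m b) ∈ 𝔑
      rw [Ideal.Quotient.eq_zero_iff_mem.mpr hb, TensorProduct.tmul_zero]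
      exact zero_mem _
    have := h𝔐.isPrime
    obtain ⟨P, hPmin, hP𝔐⟩ := Ideal.exists_minimalPrimes_le (bot_le : (⊥ : Ideal (C ⊗[A] B)) ≤ 𝔐)
    let : Algebra (C ⊗[A] B) T := (f B).toRingHom.toAlgebra
    have := hloc B hB
    let S := Algebra.algebraMapSubmonoid (C ⊗[A] B) (nonZeroDivisors A)
    have hdisj : Disjoint (S : Set (C ⊗[A] B)) P := by
      rw [Set.disjoint_left]
      rintro _ ⟨a, ha, rfl⟩ haP
      have hnz : (algebraMap A (C ⊗[A] B) a) ∈ nonZeroDivisors (C ⊗[A] B) := by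
        rw [mem_nonZeroDivisors_iff_right]
        intro x hx
        refine hfinj B (((hunit (nonZeroDivisors.ne_zero ha)).mul_left_eq_zero).mp ?_ |>.trans (map_zero _).symm)
        rw [← hfa B a, ← map_mul, hx, map_zero]
      exact Set.disjoint_left.mp (Ideal.disjoint_nonZeroDivisors_of_mem_minimalPrimes hPmin) haP hnz
    have hPp : P.IsPrime := hPmin.1.1
    let Q : Ideal T := P.map (algebraMap (C ⊗[A] B) T)
    have hQp : Q.IsPrime := IsLocalization.isPrime_of_isPrime_disjoint S T P hPp hdisj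
    have hQc : Q.comap (f B) = P := IsLocalization.under_map_of_isPrime_disjoint S T hPp hdisj
    have hQmin : Q ∈ minimalPrimes T := by
      refine ⟨⟨hQp, bot_le⟩, fun Q' hQ' hle => ?_⟩
      have : Q'.IsPrime := hQ'.1
      have h1 : P ≤ Q'.comap (f B) :=
        hPmin.2 ⟨Ideal.comap_isPrime _ _, bot_le⟩ ((Ideal.comap_mono hle).trans hQc.le)
      exact (Ideal.map_mono h1).trans Ideal.map_comap_le
    exact ⟨⟨Q, hfinQ.mem_toFinset.mpr hQmin⟩, 𝔐, h𝔐, hQc.le.trans hP𝔐, hcm⟩
  refine ⟨fun s => ?_, fun m hm n v hv => ?_⟩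
  · choose Q 𝔐 h1 h2 h3 using fun m : MaximalSpectrum B => hcover m.asIdeal m.isMaximal
    have hinj : Function.Injective Q := fun m m' h => by
      refine MaximalSpectrum.ext ?_
      rw [← h3 m, ← h3 m']
      congr 1
      have hloc' := (hM (Q m).1 (hQs _) B hB hBfin).1
      have hP' : (Q m).1.comap (f B) ≤ 𝔐 m' := h ▸ h2 m'
      rw [← comap_maximalIdeal_eq _ (h1 m) (h2 m), comap_maximalIdeal_eq _ (h1 m') hP']
    simpa using Finset.card_le_card_of_injective (s := s) (t := Qs)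
      (f := fun m => ⟨(Q m.1).1, (Q m.1).2⟩) (fun a b h => Subtype.ext (hinj (Subtype.ext (congrArg Subtype.val h :))))
  · obtain ⟨Q, 𝔐, h1, h2, h3⟩ := hcover m hm
    exact ((hM Q.1 (hQs Q) B hB hBfin).2 𝔐 h1 h2 n v (fun c hc => hv c (h3 ▸ hc))).trans
      (Finset.le_sup (f := fun Q : {Q // Q ∈ Qs} => M Q.1 (hQs Q)) (Finset.mem_univ Q))

end Groth.Agent.KrullAkizuki12
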