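import Groth.Agent.CAlg1.Regular
import Mathlib.RingTheory.Ideal.GoingUp
import Mathlib.RingTheory.Filtration

/-!
Residually independent families in an integral local domain over a regular local ring.
-/

set_option autoImplicit false

universe u

namespace Groth.Agent.KrullAkizuki12

open IsLocalRing

/-- Over a regular local ring `R`, elements of an integral local domain whose residues are independent
over the residue field of `R` are independent over `R`. -/
theorem eq_zero_of_residueIndep (R : Type u) [CommRing R] [IsRegularLocalRing R] (E : Type u) [CommRing E]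
    [IsDomain E] [IsLocalRing E] [Algebra R E] [Algebra.IsIntegral R E]
    (hinj : Function.Injective (algebraMap R E)) {ι : Type} [Fintype ι] (v : ι → E)
    (h : ∀ c : ι → R, ∑ i, c i • v i ∈ maximalIdeal E → ∀ i, c i ∈ maximalIdeal R)
    (c : ι → R) (hc : ∑ i, c i • v i = 0) : ∀ i, c i = 0 := by
  obtain ⟨n, hn⟩ : ∃ n, (maximalIdeal R).spanFinrank = n := ⟨_, rfl⟩
  induction n using Nat.strong_induction_on generalizing R E c with
  | _ n ih =>
    by_cases hbot : maximalIdeal R = ⊥
    · intro i
      simpa [hbot] using h c (by rw [hc]; exact zero_mem _) i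
    have : IsDomain R := CAlg1.isDomain_regular R
    obtain ⟨x, hx, hx2⟩ : ∃ x ∈ maximalIdeal R, x ∉ maximalIdeal R ^ 2 := by
      by_contra hno
      push Not at hno
      refine hbot (Submodule.eq_bot_of_le_smul_of_le_jacobson_bot (maximalIdeal R) (maximalIdeal R)
        (IsNoetherian.noetherian _) (fun y hy => ?_) (IsLocalRing.maximalIdeal_le_jacobson _))
      rw [smul_eq_mul, ← pow_two]
      exact hno y hy
    have hR' := (CAlg1.regular_quotient_singleton hx hx2).1
    have hsp := CAlg1.spanFinrank_quotient_succ hx hx2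
    have hx0 : x ≠ 0 := fun h0 => hx2 (h0 ▸ zero_mem _)
    let J : Ideal R := Ideal.span {x}
    have hdomJ : IsDomain (R ⧸ J) := CAlg1.isDomain_regular (R ⧸ J)
    have hJp : J.IsPrime := (Ideal.Quotient.isDomain_iff_prime J).mp hdomJ
    obtain ⟨Q, -, hQp, hQ⟩ := Ideal.exists_ideal_over_prime_of_isIntegral (S := E) J ⊥ (by
      rw [← RingHom.ker_eq_comap_bot, (RingHom.injective_iff_ker_eq_bot _).mp hinj]
      exact bot_le)
    have : IsLocalRing (E ⧸ Q) := IsLocalRing.of_surjective' _ Ideal.Quotient.mk_surjective
    have : Q.LiesOver J := ⟨hQ.symm⟩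
    have hmax : ∀ e : E, Ideal.Quotient.mk Q e ∈ maximalIdeal (E ⧸ Q) → e ∈ maximalIdeal E := fun e he hu =>
      he (hu.map _)
    have key : ∀ c : ι → R, ∑ i, c i • v i = 0 → ∀ i, x ∣ c i := fun c hc i => by
      rw [← Ideal.mem_span_singleton, ← Ideal.Quotient.eq_zero_iff_mem]
      refine ih (maximalIdeal (R ⧸ J)).spanFinrank (by simp only [J]; omega) (R ⧸ J) (E ⧸ Q)
        (FaithfulSMul.algebraMap_injective _ _) (fun j => Ideal.Quotient.mk Q (v j)) (fun d hd j => ?_)
        (fun j => Ideal.Quotient.mk J (c j)) ?_ rfl i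
      · choose d' hd' using fun j => Ideal.Quotient.mk_surjective (d j)
        rw [← hd' j]
        refine CAlg1.maximalIdeal_quotient J ▸ Ideal.mem_map_of_mem _ (h d' (hmax _ ?_) j)
        rw [map_sum]
        convert hd using 1
        refine Finset.sum_congr rfl fun k _ => ?_
        rw [← hd' k, Algebra.smul_def, map_mul, Algebra.smul_def]
        rfl
      · refine Eq.trans ?_ (map_zero (Ideal.Quotient.mk Q))
        rw [← hc, map_sum]
        refine Finset.sum_congr rfl fun j _ => ?_
        rw [Algebra.smul_def, Algebra.smul_def, map_mul]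
        rfl
    have hpow : ∀ (m : ℕ) (c : ι → R), ∑ i, c i • v i = 0 → ∀ i, c i ∈ maximalIdeal R ^ m := by
      intro m
      induction m with
      | zero => intro c _ i; simp
      | succ m ihm =>
        intro c hc i
        choose d hd using key c hc
        have hd0 : ∑ j, d j • v j = 0 := by
          refine (mul_eq_zero.mp (?_ : algebraMap R E x * ∑ j, d j • v j = 0)).resolve_left
            fun h0 => hx0 (hinj (h0.trans (map_zero _).symm))
          rw [← Algebra.smul_def, Finset.smul_sum, ← hc]
          exact Finset.sum_congr rfl fun j _ => by rw [hd j, mul_smul]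
        rw [hd i, pow_succ']
        exact Ideal.mul_mem_mul hx (ihm d hd0 i)
    intro i
    have hkrull := Ideal.iInf_pow_eq_bot_of_isLocalRing (maximalIdeal R) (maximalIdeal.isMaximal R).ne_top
    rw [← Ideal.mem_bot, ← hkrull, Ideal.mem_iInf]
    exact fun m => hpow m c hc i

end Groth.Agent.KrullAkizuki12
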